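import Cfsg.Agent.Lib.PushUpOdd.Image
import Cfsg.Agent.Lib.PMinPush.Ctx
import Cfsg.Agent.Lib.PMinPush.Members
import Cfsg.Agent.Lib.PMinPush.RankOneSide
import Cfsg.Agent.Lib.PMinPush.StructureBasic

/-!
# Odd automorphisms of a Sylow `2`-subgroup of a minimal parabolic group

`V = Ω₁Z(O₂(G))`, `B = B(S)`. The images `X` of `V` under automorphisms of `S` not centralizing `V` cover
`B / C_B(V)`, and all such images have the same centralizer in `B`; so an automorphism of odd order moves `V`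
to a subgroup centralizing `V`, and the join of the images of `V` is normal in `G`.
-/

set_option autoImplicit false
set_option linter.unusedSectionVars false
set_option linter.style.haveILetI false

namespace Cfsg.Agent.PushUpOdd

open Subgroup Subnormal PMinFF PMinPush
open scoped commutatorElement Matrix

universe u v w

theorem le_or_le {K : Type*} [Group K] {Y P Q : Subgroup K} (h : ∀ y ∈ Y, y ∈ P ∨ y ∈ Q) :
    Y ≤ P ∨ Y ≤ Q := by
  by_contra hc
  push Not at hc
  obtain ⟨a, ha, haP⟩ := SetLike.not_le_iff_exists.mp hc.1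
  obtain ⟨b, hb, hbQ⟩ := SetLike.not_le_iff_exists.mp hc.2
  have hbP := (h b hb).resolve_right hbQ
  have haQ := (h a ha).resolve_left haP
  rcases h (a * b) (mul_mem ha hb) with hP | hQ
  · exact haP (by simpa using mul_mem hP (inv_mem hbP))
  · exact hbQ (by simpa using mul_mem (inv_mem haQ) hQ)

variable {G : Type u} [Group G] [Finite G] {H : Type v} [Group H] {W : Type w} [AddCommGroup W] [Finite W]
  [DistribMulAction H W] [Fact (Nat.Prime 2)] {T : Sylow 2 G} {M : Subgroup G} {f : G →* H} {j : W → G}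


variable (c : Ctx 2 T M f j) (b : Base W 2 (T : Subgroup G) f)
  (s : Spec W 2 ((T : Subgroup G).map f) (M.map f))

theorem sq_eq_one {v : G} (hv : v ∈ (vV 2 G)) : v * v = 1 := by
  have := BaumannBlock.pow_eq_one_of_mem_omegaOneCenter hv
  rwa [pow_two] at this

theorem inv_eq_self_of_mem {v : G} (hv : v ∈ (vV 2 G)) : v⁻¹ = v := inv_eq_of_mul_eq_one_right (sq_eq_one hv)

theorem comm_of_mem_vV {v w : G} (hv : v ∈ (vV 2 G)) (hw : w ∈ (vV 2 G)) : v * w = w * v :=
  commute_vV hv (vV_le_pCore hw)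

include b in
theorem vV_le_B : (vV 2 G) ≤ (bB 2 (T : Subgroup G)) := b.V_le.trans b.M_le_B

include b in
theorem map_B : (bB 2 (T : Subgroup G)).map f = rjoin W 2 ((T : Subgroup G).map f) := b.map_B

include b in
theorem vV_le_S : (vV 2 G) ≤ (T : Subgroup G) := (vV_le_B b).trans inf_le_left

include c b s in
/-- A vector whose conjugates under `T` are all fixed by one root group is fixed by all. -/
theorem fixed_of_conj {D : Subgroup H} (hD : IsRoot W 2 D) (hDT : D ≤ (T : Subgroup G).map f) {w : W}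
    (h : ∀ t ∈ (T : Subgroup G), f t • w ∈ fixA W D) : j w ∈ centralizer ((bB 2 (T : Subgroup G)) : Set G) := by
  refine c.mem_fixA_map.mp ?_
  rw [(map_B b)]
  intro g hg
  let St : Subgroup H := MulAction.stabilizer H w
  suffices h' : (rjoin W 2 ((T : Subgroup G).map f)) ≤ St from h' hg
  refine iSup_le fun D' g' hg' => ?_
  obtain ⟨t, ⟨t₀, ht₀, rfl⟩, e⟩ := s.trans D D'.1 hD hDT D'.2.1 D'.2.2
  rw [← e] at hg'
  obtain ⟨d, hd, rfl⟩ := hg'
  show ((MulAut.conj (f t₀)).toMonoidHom d) • w = w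
  have h1 := h t₀⁻¹ (inv_mem ht₀) d hd
  rw [map_inv] at h1
  rw [MulEquiv.coe_toMonoidHom, MulAut.conj_apply, mul_smul, mul_smul, h1, smul_inv_smul]

include c b s in
/-- An element of `rjoin` in all the complements of the sides is trivial. -/
theorem exists_side {Y : Subgroup H} (hY : Y ≤ (rjoin W 2 ((T : Subgroup G).map f))) (hne : Y ≠ ⊥) :
    ∃ D, ¬ Y ≤ (s.side D).R₀ := by
  haveI := c.finiteH
  by_contra hc
  push Not at hc
  haveI hN : (⨆ i, s.dec.E i).Normal := Decomp.normal_iSup s.extra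
  set N := ⨆ i, s.dec.E i with hNdef
  have hYN : Y ≤ N := hY.trans ((le_normalClosure).trans (s.normalClosure_rjoin c.root).le)
  have hYC : Y ≤ centralizer (N : Set H) := by
    rw [le_centralizer_iff]
    refine (s.gen.ge.trans (iSup_le fun D => ?_) :)
    rw [le_centralizer_iff]
    exact (hc D).trans (s.side D).comm
  haveI hC : (centralizer (N : Set H)).Normal := inferInstance
  let J : Subgroup H :=
    { carrier := {z | z ∈ N ∧ z ∈ centralizer (N : Set H) ∧ z ^ 2 = 1}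
      one_mem' := ⟨one_mem _, one_mem _, one_pow 2⟩
      mul_mem' := fun {x y} hx hy => ⟨mul_mem hx.1 hy.1, mul_mem hx.2.1 hy.2.1, by
        rw [(show Commute x y from hy.2.1 x hx.1).mul_pow, hx.2.2, hy.2.2, one_mul]⟩
      inv_mem' := fun {x} hx => ⟨inv_mem hx.1, inv_mem hx.2.1, by rw [inv_pow, hx.2.2, inv_one]⟩ }
  have hJn : J.Normal := ⟨fun z hz g => ⟨hN.conj_mem z hz.1 g, hC.conj_mem z hz.2.1 g, by
    rw [conj_pow, hz.2.2, mul_one, mul_inv_cancel]⟩⟩
  have hJp : IsPGroup 2 J := fun z => ⟨1, Subtype.ext (by simpa using z.2.2.2)⟩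
  refine hne (le_bot_iff.mp (le_trans (fun y hy => ?_) (c.sys.pker J hJn hJp).le))
  exact ⟨hYN hy, hYC hy, s.elem.2 y (hY hy)⟩

include c b s in
/-- A subgroup of `B` normalized by `S` and not centralizing `V` fixes in `V` what `B` fixes. -/
theorem fix_all {X : Subgroup G} (hXB : X ≤ (bB 2 (T : Subgroup G))) (hn : (T : Subgroup G) ≤ normalizer (X : Set G))
    (hX : ¬ X ≤ centralizer ((vV 2 G) : Set G)) : (vV 2 G) ⊓ centralizer (X : Set G) ≤ centralizer ((bB 2 (T : Subgroup G)) : Set G) := by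
  have hY : X.map f ≤ (rjoin W 2 ((T : Subgroup G).map f)) := (map_mono hXB).trans (map_B b).le
  have hne : X.map f ≠ ⊥ := by
    rwa [Ne, Subgroup.map_eq_bot_iff, c.ker_f]
  obtain ⟨⟨D, hD, hDT⟩, hnot⟩ := exists_side c b s hY hne
  set sd := s.side ⟨D, hD, hDT⟩
  obtain ⟨y, hy, hyR⟩ := SetLike.not_le_iff_exists.mp hnot
  obtain ⟨r, hr, d, hd, e⟩ := sd.exists_mul_D (hY hy)
  have hd1 : d ≠ 1 := fun h => hyR (by rwa [← e, h, mul_one])
  intro z hz
  obtain ⟨w, rfl⟩ := c.exists_j hz.1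
  refine fixed_of_conj c b s hD hDT fun t ht => (sd.c.mem_fixA_iff hD _).mpr ?_
  have hfix : f t • w ∈ fixA W (X.map f) := by
    rintro _ ⟨x, hx, rfl⟩
    have hx' : t⁻¹ * x * t ∈ X := by
      simpa using (mem_normalizer_iff.mp (hn (inv_mem ht)) x).mp hx
    have h1 : f (t⁻¹ * x * t) • w = w := c.mem_fixA_map.mpr hz.2 _ (mem_map_of_mem f hx')
    rwa [map_mul, map_mul, map_inv, mul_smul, mul_smul, inv_smul_eq_iff] at h1
  have h2 : sd.c.ψ (d • f t • w) = sd.c.ψ (f t • w) := by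
    rw [← sd.triv r hr (d • f t • w), ← mul_smul, e, hfix y hy]
  have h3 := sd.c.psi_dlt_of_mem hd (f t • w)
  rw [dlt_apply, map_sub, h2, sub_self] at h3
  have h4 := (mul_eq_zero.mp (congrFun h3 0).symm).resolve_left fun h0 => hd1 ?_
  · exact h4
  · obtain ⟨τ, hτ⟩ := sd.c.exists_u hd
    have : NaturalSL2.uni τ = sd.c.ρ ⟨d, sd.c.le hd⟩ := by
      rw [← sd.c.rho_u τ]; exact congrArg sd.c.ρ (Subtype.ext hτ)
    rw [← this] at h0
    rw [← hτ, show τ = 0 by simpa [NaturalSL2.uni] using h0, sd.c.u_zero]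

section Images

variable (a a' : MulAut ↥(T : Subgroup G))

include b in
theorem img_vV_le_B : img a (vV 2 G) ≤ (bB 2 (T : Subgroup G)) := (img_mono a (vV_le_B b)).trans (img_baumann (T : Subgroup G) 2 a).le

theorem le_normalizer_img_vV : (T : Subgroup G) ≤ normalizer (img a (vV 2 G) : Set G) := by
  haveI := vV_normal (G := G) (p := 2)
  exact le_normalizer_img a (by rw [normalizer_eq_top]; exact le_top)

include b in
theorem not_le_inv (ha : ¬ img a (vV 2 G) ≤ centralizer ((vV 2 G) : Set G)) :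
    ¬ img a⁻¹ (vV 2 G) ≤ centralizer ((vV 2 G) : Set G) := fun h => ha <| by
  have := img_le_centralizer a h
  rw [img_img_inv a (vV_le_S b)] at this
  exact le_centralizer_iff.mp this

include c b s in
/-- An image of `V` not centralizing `V` covers `B / C_B(V)`. -/
theorem cover (ha : ¬ img a (vV 2 G) ≤ centralizer ((vV 2 G) : Set G)) {g : G} (hg : g ∈ (bB 2 (T : Subgroup G))) :
    ∃ x ∈ img a (vV 2 G), x⁻¹ * g ∈ (bB 2 (T : Subgroup G)) ⊓ centralizer ((vV 2 G) : Set G) := by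
  haveI := c.finiteH
  set X := img a (vV 2 G)
  have hXB : X ≤ (bB 2 (T : Subgroup G)) := img_vV_le_B b a
  have hz : Nat.card ↥(X ⊓ centralizer ((vV 2 G) : Set G)) ≤ Nat.card (fixA W (rjoin W 2 ((T : Subgroup G).map f))) := by
    rw [← (map_B b), c.card_fixA_map]
    have e : X ⊓ centralizer ((vV 2 G) : Set G) = img a ((vV 2 G) ⊓ centralizer (img a⁻¹ (vV 2 G) : Set G)) := by
      rw [img_inf_centralizer a (img_le _), img_img_inv a (vV_le_S b)]
    rw [e, card_img a (inf_le_left.trans (vV_le_S b))]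
    exact card_le_of_le (le_inf inf_le_left
      (fix_all c b s (img_vV_le_B b _) (le_normalizer_img_vV _) (not_le_inv b a ha)))
  have hX : Nat.card X = Nat.card (X.map f) * Nat.card ↥(X ⊓ centralizer ((vV 2 G) : Set G)) := by
    rw [← c.ker_f, ← relIndex_ker, ← inf_relIndex_left, mul_comm,
      ← relIndex_bot_left (X ⊓ f.ker), relIndex_mul_relIndex _ _ _ bot_le inf_le_left, relIndex_bot_left]
  have hle : X.map f ≤ (rjoin W 2 ((T : Subgroup G).map f)) := (map_mono hXB).trans (map_B b).le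
  have heq : X.map f = (rjoin W 2 ((T : Subgroup G).map f)) := by
    refine eq_of_le_of_card_ge hle (Nat.le_of_mul_le_mul_right ?_ (Nat.card_pos (α := fixA W (rjoin W 2 ((T : Subgroup G).map f)))))
    calc Nat.card (rjoin W 2 ((T : Subgroup G).map f)) * Nat.card (fixA W (rjoin W 2 ((T : Subgroup G).map f))) ≤ Nat.card W := c.sys.noOver _ s.elem
      _ = Nat.card X := by rw [c.card_W, card_img a (vV_le_S b)]
      _ ≤ _ := hX ▸ Nat.mul_le_mul_left _ hz
  obtain ⟨x, hx, e⟩ : f g ∈ X.map f := by rw [heq, ← (map_B b)]; exact mem_map_of_mem f hg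
  exact ⟨x, hx, mem_inf.mpr ⟨mul_mem (inv_mem (hXB hx)) hg,
    c.f_eq_one.mp (by rw [map_mul, map_inv, e, inv_mul_cancel])⟩⟩

include c b s in
/-- The same relative to another image. -/
theorem cover' (h : ¬ img a' (vV 2 G) ≤ centralizer (img a (vV 2 G) : Set G)) {g : G} (hg : g ∈ (bB 2 (T : Subgroup G))) :
    ∃ y ∈ img a' (vV 2 G), y⁻¹ * g ∈ (bB 2 (T : Subgroup G)) ⊓ centralizer (img a (vV 2 G) : Set G) := by
  have hS : g ∈ (T : Subgroup G) := hg.1
  have hne : ¬ img (a⁻¹ * a') (vV 2 G) ≤ centralizer ((vV 2 G) : Set G) := fun hle => h <| by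
    have := img_le_centralizer a hle
    rwa [← img_mul, mul_inv_cancel_left] at this
  have hg' : ((a⁻¹ ⟨g, hS⟩ : ↥(T : Subgroup G)) : G) ∈ (bB 2 (T : Subgroup G)) := by
    have := apply_mem_img a⁻¹ (K := (bB 2 (T : Subgroup G))) (x := ⟨g, hS⟩) hg
    rwa [img_baumann] at this
  obtain ⟨y, hy, hr⟩ := cover c b s (a⁻¹ * a') hne hg'
  have hyS : y ∈ (T : Subgroup G) := img_le _ hy
  refine ⟨(a ⟨y, hyS⟩ : ↥(T : Subgroup G)), ?_, ?_⟩
  · have := apply_mem_img a (x := ⟨y, hyS⟩) hy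
    rwa [← img_mul, mul_inv_cancel_left] at this
  · have h1 : ((a ((⟨y, hyS⟩ : ↥(T : Subgroup G))⁻¹ * a⁻¹ ⟨g, hS⟩) : ↥(T : Subgroup G)) : G) ∈
        img a ((bB 2 (T : Subgroup G)) ⊓ centralizer ((vV 2 G) : Set G)) := apply_mem_img a hr
    rw [img_inf_centralizer a (vV_le_S b), img_baumann] at h1
    simpa [map_mul, map_inv] using h1

end Images

variable {Hs X : Subgroup G} {Dd : {D : Subgroup H // IsRoot W 2 D ∧ D ≤ (T : Subgroup G).map f}}
  (rs : RankSub 2 f (s.side Dd) Hs X) (h1 : OneD 2 Hs X)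

include c b s rs h1 in
/-- The commutators of `C_B(V)` with `X` lie in `V`. -/
theorem core_comm {m x : G} (hm : m ∈ (bB 2 (T : Subgroup G)) ⊓ centralizer ((vV 2 G) : Set G)) (hx : x ∈ X) :
    ⁅m, x⁆ ∈ (vV 2 G) := by
  have hmM : m ∈ mM W 2 (T : Subgroup G) f := b.B_inf.le hm
  have hfm : f m = 1 := c.f_eq_one.mpr hm.2
  have hmc : m ∈ Cfsg.pCoreOf 2 Hs := by
    rw [rs.core]
    exact ⟨hm.1, by show f m ∈ (s.side Dd).R₀; rw [hfm]; exact one_mem _⟩
  haveI := vV_normal (G := G) (p := 2)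
  exact commutator_le_left _ _ (h1 (commutator_mem_commutator hmc hx))

include c b s rs h1 in
theorem conj_core {m x : G} (hm : m ∈ (bB 2 (T : Subgroup G)) ⊓ centralizer ((vV 2 G) : Set G)) (hx : x ∈ X) :
    ∃ v ∈ (vV 2 G), x * m * x⁻¹ = v * m :=
  ⟨⁅m, x⁆⁻¹, inv_mem (core_comm c b s rs h1 hm hx), by simp only [commutatorElement_def]; group⟩

include c b s rs h1 in
/-- The squares of `C_B(V)` centralize `X`. -/
theorem sq_commutes {m : G} (hm : m ∈ (bB 2 (T : Subgroup G)) ⊓ centralizer ((vV 2 G) : Set G)) :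
    m * m ∈ centralizer (X : Set G) := fun x hx => by
  obtain ⟨v, hv, e⟩ := conj_core c b s rs h1 hm hx
  have hc : m * v = v * m := (hm.2 v hv).symm
  have : x * (m * m) * x⁻¹ = m * m := by
    calc x * (m * m) * x⁻¹ = (x * m * x⁻¹) * (x * m * x⁻¹) := by group
      _ = v * (m * v) * m := by rw [e]; group
      _ = v * v * (m * m) := by rw [hc]; group
      _ = m * m := by rw [sq_eq_one hv, one_mul]
  rwa [mul_inv_eq_iff_eq_mul] at this

include c b s rs h1 in
/-- The commutators of `C_B(V)` centralize `X`. -/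
theorem comm_commutes {m n : G} (hm : m ∈ (bB 2 (T : Subgroup G)) ⊓ centralizer ((vV 2 G) : Set G))
    (hn : n ∈ (bB 2 (T : Subgroup G)) ⊓ centralizer ((vV 2 G) : Set G)) : ⁅m, n⁆ ∈ centralizer (X : Set G) := fun x hx => by
  obtain ⟨v, hv, e⟩ := conj_core c b s rs h1 hm hx
  obtain ⟨v', hv', e'⟩ := conj_core c b s rs h1 hn hx
  have c1 : Commute v m := hm.2 v hv
  have c2 : Commute v n := hn.2 v hv
  have c3 : Commute v' m := hm.2 v' hv'
  have c4 : Commute v' n := hn.2 v' hv'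
  have c5 : Commute v v' := comm_of_mem_vV hv hv'
  have : x * ⁅m, n⁆ * x⁻¹ = ⁅m, n⁆ := by
    calc x * ⁅m, n⁆ * x⁻¹ = ⁅x * m * x⁻¹, x * n * x⁻¹⁆ := by simp only [commutatorElement_def]; group
      _ = ⁅v * m, v' * n⁆ := by rw [e, e']
      _ = v * (m * v') * n * m⁻¹ * (v⁻¹ * n⁻¹) * v'⁻¹ := by simp only [commutatorElement_def]; group
      _ = v * v' * m * n * (m⁻¹ * n⁻¹) * (v⁻¹ * v'⁻¹) := by
        rw [c3.symm.eq, c2.inv_inv.eq]; group
      _ = ⁅m, n⁆ := by
        have hu : Commute (v * v') ⁅m, n⁆ := by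
          rw [commutatorElement_def]
          exact ((((c1.mul_left c3).mul_right (c2.mul_left c4)).mul_right
            (c1.mul_left c3).inv_right).mul_right (c2.mul_left c4).inv_right)
        calc _ = (v * v') * ⁅m, n⁆ * (v⁻¹ * v'⁻¹) := by simp only [commutatorElement_def]; group
          _ = ⁅m, n⁆ * (v * v' * (v⁻¹ * v'⁻¹)) := by rw [hu.eq]; group
          _ = ⁅m, n⁆ := by rw [c5.eq, mul_assoc, mul_inv_cancel_left, mul_inv_cancel, mul_one]
  rwa [mul_inv_eq_iff_eq_mul] at this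

include c b s rs in
/-- The pairing of the side: a commutator fixed by `X` vanishes on the side. -/
theorem axis {g : G} (hg : g ∈ (bB 2 (T : Subgroup G))) {w : W} (h : ⁅g, j w⁆ ∈ centralizer (X : Set G)) :
    f g ∈ (s.side Dd).R₀ ∨ (s.side Dd).c.ψ w 1 = 0 := by
  set sd := s.side Dd
  have hgr : f g ∈ (rjoin W 2 ((T : Subgroup G).map f)) := (map_B b).le (mem_map_of_mem f hg)
  obtain ⟨r, hr, d, hd, e⟩ := sd.exists_mul_D hgr
  set t := (sd.c.ρ ⟨d, sd.c.le hd⟩ : Matrix (Fin 2) (Fin 2) sd.c.F) 0 1 with htdef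
  rcases eq_or_ne t 0 with ht | ht
  · left
    obtain ⟨τ, hτ⟩ := sd.c.exists_u hd
    have hu : NaturalSL2.uni τ = sd.c.ρ ⟨d, sd.c.le hd⟩ := by
      rw [← sd.c.rho_u τ]; exact congrArg sd.c.ρ (Subtype.ext hτ)
    rw [htdef, ← hu] at ht
    rw [← e, ← hτ, show τ = 0 by simpa [NaturalSL2.uni] using ht, sd.c.u_zero, mul_one]
    exact hr
  right
  set z := f g • w - w with hz
  have hjz : j z = ⁅g, j w⁆ := by rw [hz, c.j_sub, c.j_smul]; rfl
  have hψz : sd.c.ψ z = ![t * sd.c.ψ w 1, 0] := by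
    rw [hz, map_sub, ← e, mul_smul, sd.triv r hr, ← map_sub, ← dlt_apply, sd.c.psi_dlt_of_mem hd]
  let St : Subgroup H :=
    { carrier := {k | k ∈ (rjoin W 2 ((T : Subgroup G).map f)) ⊔ sd.c.opp ∧ sd.c.ψ (k • z) = sd.c.ψ z}
      one_mem' := ⟨one_mem _, by rw [one_smul]⟩
      mul_mem' := fun {k l} hk hl => ⟨mul_mem hk.1 hl.1, by
        rw [mul_smul, sd.psi_theta ⟨k, hk.1⟩ (l • z), hl.2, ← sd.psi_theta ⟨k, hk.1⟩ z]
        exact hk.2⟩
      inv_mem' := fun {k} hk => ⟨inv_mem hk.1, by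
        obtain ⟨h1, h2⟩ := hk
        have h3 := sd.psi_theta ⟨k⁻¹, inv_mem h1⟩ (k • z)
        rw [h2] at h3
        rw [sd.psi_theta ⟨k⁻¹, inv_mem h1⟩ z, ← h3]
        show sd.c.ψ (k⁻¹ • k • z) = _
        rw [inv_smul_smul]⟩ }
  have hSt : Hs.map f ≤ St := by
    rw [← rs.cover, Subgroup.map_sup, (map_B b)]
    refine sup_le ?_ ?_
    · rintro _ ⟨x, hx, rfl⟩
      refine ⟨rs.map.le (mem_map_of_mem f ((le_sup_left.trans rs.cover.le) hx)), ?_⟩
      rw [(c.smul_eq_iff x z).mpr (by rw [hjz]; exact h x hx)]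
    · intro k hk
      refine ⟨mem_sup_left hk, ?_⟩
      obtain ⟨r', hr', d', hd', rfl⟩ := sd.exists_mul_D hk
      rw [mul_smul, sd.triv r' hr', sd.c.psi_smul_of_mem hd', hψz]
      funext i; fin_cases i <;> simp
  have hl := (hSt (rs.map.ge (mem_sup_right (sd.c.l_mem_opp 1)))).2
  rw [sd.c.psi_l, hψz] at hl
  have := congrFun hl 1
  exact (mul_eq_zero.mp (by simpa using this)).resolve_left ht

variable (Dd) in
include c in
/-- The vectors of `V` vanishing on the side. -/
def axisGroup : Subgroup G where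
  carrier := {g | ∃ w, j w = g ∧ (s.side Dd).c.ψ w 1 = 0}
  one_mem' := ⟨0, c.j_zero, by simp⟩
  mul_mem' := by
    rintro _ _ ⟨v, rfl, hv⟩ ⟨w, rfl, hw⟩
    exact ⟨v + w, c.j_add v w, by simp [hv, hw]⟩
  inv_mem' := by
    rintro _ ⟨v, rfl, hv⟩
    exact ⟨-v, c.j_neg v, by simp [hv]⟩

variable (Dd) in
include c b in
theorem le_normalizer_axisGroup : (bB 2 (T : Subgroup G)) ≤ normalizer (axisGroup c s Dd : Set G) := fun g hg => by
  refine LocalStructure.mem_normalizer_of_map_conj_le ?_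
  rintro _ ⟨_, ⟨w, rfl, hw⟩, rfl⟩
  refine ⟨f g • w, c.j_smul g w, ?_⟩
  obtain ⟨r, hr, d, hd, e⟩ := (s.side Dd).exists_mul_D ((map_B b).le (mem_map_of_mem f hg))
  rw [← e, mul_smul, (s.side Dd).triv r hr, (s.side Dd).c.psi_smul_of_mem hd]
  simpa using hw

include c b s in
theorem fixed_axis {w : W} (h : j w ∈ centralizer ((bB 2 (T : Subgroup G)) : Set G)) :
    (s.side Dd).c.ψ w 1 = 0 := by
  refine ((s.side Dd).c.mem_fixA_iff Dd.2.1 w).mp ?_
  have : w ∈ fixA W ((bB 2 (T : Subgroup G)).map f) := c.mem_fixA_map.mpr h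
  rw [(map_B b)] at this
  exact fixA_anti (s.side Dd).D_le this

section Two

variable {a a' : MulAut ↥(T : Subgroup G)} (ha : ¬ img a (vV 2 G) ≤ centralizer ((vV 2 G) : Set G))
  (ha' : ¬ img a' (vV 2 G) ≤ centralizer ((vV 2 G) : Set G))

include c b s rs h1 ha ha' in
/-- Two images not centralizing `V` centralize each other. -/
theorem commute_of_two : img a' (vV 2 G) ≤ centralizer (img a (vV 2 G) : Set G) := by
  by_contra hne
  set sd := s.side Dd
  set P := img a (vV 2 G)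
  set Y := img a' (vV 2 G)
  set Q := axisGroup c s Dd
  have hYB : Y ≤ (bB 2 (T : Subgroup G)) := img_vV_le_B b a'
  have hPB : P ≤ (bB 2 (T : Subgroup G)) := img_vV_le_B b a
  have hVP : ¬ img (1 : MulAut ↥(T : Subgroup G)) (vV 2 G) ≤ centralizer (P : Set G) := by
    rw [img_one (vV_le_S b)]
    exact fun h => ha (le_centralizer_iff.mp h)
  have hQn : (bB 2 (T : Subgroup G)) ⊓ centralizer (P : Set G) ≤ normalizer (Q : Set G) :=
    inf_le_left.trans (le_normalizer_axisGroup c b s Dd)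
  have hor : ∀ y ∈ Y, y ∈ (sd.R₀.comap f) ∨ y ∈ (bB 2 (T : Subgroup G)) ⊓ centralizer (P : Set G) ⊔ Q := by
    intro y hy
    obtain ⟨x, hx, hr⟩ := cover c b s a ha (hYB hy)
    obtain ⟨w₀, hw₀, hn⟩ := cover' c b s a 1 hVP hr.1
    rw [img_one (vV_le_S b)] at hw₀
    set n := w₀⁻¹ * (x⁻¹ * y) with hndef
    have hnV : n ∈ centralizer ((vV 2 G) : Set G) :=
      mul_mem (inv_mem (fun v hv => comm_of_mem_vV hv hw₀)) hr.2
    have cx : Commute x n := hn.2 x hx
    have cw : Commute w₀ n := hnV w₀ hw₀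
    have hy2 : y * y = 1 := by
      obtain ⟨z, hz, rfl⟩ := (mem_img a').mp hy
      rw [← Subgroup.coe_mul, ← map_mul, show z * z = 1 from Subtype.ext (sq_eq_one hz), map_one]
      rfl
    have hx2 : x * x = 1 := by
      obtain ⟨z, hz, rfl⟩ := (mem_img a).mp hx
      rw [← Subgroup.coe_mul, ← map_mul, show z * z = 1 from Subtype.ext (sq_eq_one hz), map_one]
      rfl
    have hw2 : w₀ * w₀ = 1 := sq_eq_one hw₀
    have ey : y = x * w₀ * n := by rw [hndef]; group
    have hcomm : ⁅x, w₀⁆ = (n * n)⁻¹ := by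
      rw [commutatorElement_def, inv_eq_of_mul_eq_one_right hx2, inv_eq_of_mul_eq_one_right hw2]
      refine eq_inv_of_mul_eq_one_left ?_
      calc x * w₀ * x * w₀ * (n * n) = x * w₀ * (x * w₀ * n) * n := by group
        _ = x * w₀ * (n * (x * w₀)) * n := by rw [(cx.mul_left cw).eq]
        _ = (x * w₀ * n) * (x * w₀ * n) := by group
        _ = 1 := by rw [← ey, hy2]
    obtain ⟨w, hw⟩ := c.exists_j hw₀
    rcases axis c b s rs (hPB hx) (w := w) (by
      rw [hw, hcomm]
      exact inv_mem (sq_commutes c b s rs h1 ⟨hn.1, hnV⟩)) with hL | hR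
    · refine Or.inl (show f y ∈ sd.R₀ from ?_)
      have hwV : f w₀ = 1 := c.f_eq_one.mpr fun v hv => comm_of_mem_vV hv hw₀
      rwa [ey, map_mul, map_mul, hwV, c.f_eq_one.mpr hnV, mul_one, mul_one]
    · refine Or.inr ?_
      rw [ey, mul_assoc, ← cw.eq.symm, ← mul_assoc]
      have hxC : x ∈ centralizer (P : Set G) := fun z hz => by
        obtain ⟨u, hu, rfl⟩ := (mem_img a).mp hz
        obtain ⟨u', hu', rfl⟩ := (mem_img a).mp hx
        rw [← Subgroup.coe_mul, ← map_mul, show u * u' = u' * u from Subtype.ext (comm_of_mem_vV hu hu'),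
          map_mul, Subgroup.coe_mul]
      exact mul_mem (mem_sup_left (mul_mem (show x ∈ (bB 2 (T : Subgroup G)) ⊓ centralizer (P : Set G) from ⟨hPB hx, hxC⟩) hn))
        (mem_sup_right ⟨w, hw, hR⟩)
  rcases le_or_le hor with hL | hR
  · obtain ⟨g, hg, g1⟩ := (bot_or_exists_ne_one Dd.1).resolve_left Dd.2.1.ne
    obtain ⟨g₀, hg₀, rfl⟩ : g ∈ (bB 2 (T : Subgroup G)).map f := (map_B b).ge (sd.D_le hg)
    obtain ⟨y, hy, hr⟩ := cover c b s a' ha' hg₀
    have e : f y = f g₀ := by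
      have := c.f_eq_one.mpr hr.2
      rwa [map_mul, map_inv, inv_mul_eq_one] at this
    have : f g₀ ∈ sd.R₀ ⊓ sd.c.L := ⟨e ▸ hL hy, sd.c.le hg⟩
    rw [sd.inf_L, mem_bot] at this
    exact g1 this
  · obtain ⟨w, hw⟩ := sd.c.surj ![0, 1]
    have hv : j w ∈ (vV 2 G) := c.j_mem w
    obtain ⟨y, hy, hr⟩ := cover' c b s a a' hne (vV_le_B b hv)
    have hmem : j w ∈ (bB 2 (T : Subgroup G)) ⊓ centralizer (P : Set G) ⊔ Q := by
      have := mul_mem (hR hy) (mem_sup_left hr)
      rwa [mul_inv_cancel_left] at this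
    obtain ⟨g, hg, _, ⟨q, rfl, hq⟩, e⟩ := LocalStructure.exists_mul_of_mem_sup hQn hmem
    have hgv : g = j (w - q) := by rw [c.j_sub, ← e, mul_inv_cancel_right]
    have hfix : j (w - q) ∈ centralizer ((bB 2 (T : Subgroup G)) : Set G) :=
      fix_all c b s hPB (le_normalizer_img_vV a) ha ⟨c.j_mem _, hgv ▸ hg.2⟩
    have h0 := fixed_axis c b s (Dd := Dd) hfix
    rw [map_sub, Pi.sub_apply, hq, hw, sub_zero] at h0
    simp at h0

include c b s rs h1 ha ha' in
/-- Two images not centralizing `V` have the same centralizer in `B`. -/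
theorem centralizer_eq_of_two :
    (bB 2 (T : Subgroup G)) ⊓ centralizer (img a' (vV 2 G) : Set G) = (bB 2 (T : Subgroup G)) ⊓ centralizer (img a (vV 2 G) : Set G) := by
  set sd := s.side Dd
  have hYC := commute_of_two c b s rs h1 ha ha'
  set P := img a (vV 2 G)
  set Y := img a' (vV 2 G)
  have hYB : Y ≤ (bB 2 (T : Subgroup G)) := img_vV_le_B b a'
  have hPB : P ≤ (bB 2 (T : Subgroup G)) := img_vV_le_B b a
  have hVP : ¬ img (1 : MulAut ↥(T : Subgroup G)) (vV 2 G) ≤ centralizer (P : Set G) := by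
    rw [img_one (vV_le_S b)]
    exact fun h => ha (le_centralizer_iff.mp h)
  haveI hVn := vV_normal (G := G) (p := 2)
  haveI hCVn : (centralizer ((vV 2 G) : Set G)).Normal := inferInstance
  have hBn : (T : Subgroup G) ≤ normalizer ((bB 2 (T : Subgroup G)) : Set G) := fun t ht => by
    refine LocalStructure.mem_normalizer_of_map_conj_le ?_
    rintro _ ⟨g, hg, rfl⟩
    have := apply_mem_img (MulAut.conj (⟨t, ht⟩ : ↥(T : Subgroup G))) (K := (bB 2 (T : Subgroup G))) (x := ⟨g, hg.1⟩) hg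
    rwa [img_baumann] at this
  have hconj : ∀ {t g : G} (K : Subgroup G), t ∈ normalizer (K : Set G) → g ∈ K → t * g * t⁻¹ ∈ K :=
    fun K ht hg => (mem_normalizer_iff.mp ht _).mp hg
  have hle : (bB 2 (T : Subgroup G)) ⊓ centralizer (Y : Set G) ≤ (bB 2 (T : Subgroup G)) ⊓ centralizer (P : Set G) := by
    -- a value of the decomposition lies on the axis
    have key : ∀ x v n : G, x ∈ P → v ∈ (vV 2 G) → n ∈ (bB 2 (T : Subgroup G)) ⊓ centralizer ((vV 2 G) : Set G) →
        n ∈ centralizer (P : Set G) → x * v * n ∈ centralizer (Y : Set G) →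
        ∀ w, j w = v → sd.c.ψ w 1 = 0 := by
      intro x v n hx hv hn hnP hxvn w hw
      obtain ⟨g, hg, g1⟩ := (bot_or_exists_ne_one Dd.1).resolve_left Dd.2.1.ne
      obtain ⟨g₀, hg₀, rfl⟩ : g ∈ (bB 2 (T : Subgroup G)).map f := (map_B b).ge (sd.D_le hg)
      obtain ⟨y, hy, hr⟩ := cover c b s a' ha' hg₀
      have e : f y = f g₀ := by
        have := c.f_eq_one.mpr hr.2
        rwa [map_mul, map_inv, inv_mul_eq_one] at this
      obtain ⟨x₁, hx₁, hn₁⟩ := cover c b s a ha (hYB hy)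
      have ex : f x₁ = f y := by
        have := c.f_eq_one.mpr hn₁.2
        rwa [map_mul, map_inv, inv_mul_eq_one] at this
      set n₁ := x₁⁻¹ * y with hn₁def
      have hxC : ∀ {z}, z ∈ P → z ∈ centralizer (P : Set G) := fun {z} hz u hu => by
        obtain ⟨z', hz', rfl⟩ := (mem_img a).mp hz
        obtain ⟨u', hu', rfl⟩ := (mem_img a).mp hu
        rw [← Subgroup.coe_mul, ← map_mul, show u' * z' = z' * u' from Subtype.ext (comm_of_mem_vV hu' hz'),
          map_mul, Subgroup.coe_mul]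
      have hn₁P : n₁ ∈ centralizer (P : Set G) := mul_mem (inv_mem (hxC hx₁)) (hYC hy)
      have cy : Commute x y := hYC hy x hx
      have c0 : Commute y (x * v * n) := hxvn y hy
      have cvn : Commute y (v * n) := by
        have := cy.symm.inv_right.mul_right c0
        rwa [show x⁻¹ * (x * v * n) = v * n by group] at this
      have hxn : ⁅x₁, v⁆ = ⁅n, n₁⁆ := by
        have h2 : v * n * (x₁ * n₁) = x₁ * n₁ * (v * n) := by
          rw [hn₁def, mul_inv_cancel_left]; exact cvn.eq.symm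
        have a1 : Commute x₁ n := hnP x₁ hx₁
        have a2 : Commute v n₁ := hn₁.2 v hv
        have h3 : v * x₁ * (n * n₁) = x₁ * v * (n₁ * n) := by
          calc v * x₁ * (n * n₁) = v * (x₁ * n) * n₁ := by group
            _ = v * n * (x₁ * n₁) := by rw [a1.eq]; group
            _ = x₁ * (n₁ * v) * n := by rw [h2]; group
            _ = x₁ * v * (n₁ * n) := by rw [← a2.eq]; group
        obtain ⟨u, hu, hxu⟩ := (mem_img a).mp hx₁
        have e1 : x₁⁻¹ = x₁ := by
          refine inv_eq_of_mul_eq_one_right ?_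
          rw [← hxu, ← Subgroup.coe_mul, ← map_mul, show u * u = 1 from Subtype.ext (sq_eq_one hu), map_one]
          rfl
        have h5 : (x₁ * v)⁻¹ * (v * x₁) = n₁ * n * (n * n₁)⁻¹ := by
          rw [eq_mul_inv_iff_mul_eq, mul_assoc, h3]
          group
        have h6 := congrArg (·⁻¹) h5
        simp only [mul_inv_rev, inv_inv, inv_eq_self_of_mem hv, e1] at h6
        simp only [commutatorElement_def, e1, inv_eq_self_of_mem hv]
        simpa [mul_assoc] using h6
      rcases axis c b s rs (hPB hx₁) (w := w) (by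
        rw [hw, hxn]; exact comm_commutes c b s rs h1 hn hn₁) with hL | hR
      · exfalso
        have : f g₀ ∈ sd.R₀ ⊓ sd.c.L := ⟨by rwa [← e, ← ex], sd.c.le hg⟩
        rw [sd.inf_L, mem_bot] at this
        exact g1 this
      · exact hR
    intro g hg
    obtain ⟨x, hx, hr⟩ := cover c b s a ha hg.1
    obtain ⟨v, hv, hn⟩ := cover' c b s a 1 hVP hr.1
    rw [img_one (vV_le_S b)] at hv
    set n := v⁻¹ * (x⁻¹ * g) with hndef
    have hnV : n ∈ centralizer ((vV 2 G) : Set G) :=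
      mul_mem (inv_mem (fun u hu => comm_of_mem_vV hu hv)) hr.2
    obtain ⟨w, hw⟩ := c.exists_j hv
    have hvC : v ∈ centralizer ((bB 2 (T : Subgroup G)) : Set G) := by
      rw [← hw]
      refine fixed_of_conj c b s Dd.2.1 Dd.2.2 fun t ht => (sd.c.mem_fixA_iff Dd.2.1 _).mpr ?_
      have hYn := le_normalizer_img_vV (T := T) a'
      refine key (t * x * t⁻¹) (t * v * t⁻¹) (t * n * t⁻¹) (hconj _ (le_normalizer_img_vV a ht) hx)
        (hVn.conj_mem v hv t) ⟨hconj _ (hBn ht) hn.1, hCVn.conj_mem n hnV t⟩ ?_ ?_ _ (by rw [c.j_smul, hw])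
      · intro u hu
        have hu' : t⁻¹ * u * t ∈ P := by simpa using hconj _ (le_normalizer_img_vV a (inv_mem ht)) hu
        have := hn.2 _ hu'
        calc u * (t * n * t⁻¹) = t * ((t⁻¹ * u * t) * n) * t⁻¹ := by group
          _ = t * n * t⁻¹ * u := by rw [this]; group
      · intro u hu
        have hu' : t⁻¹ * u * t ∈ Y := by simpa using hconj _ (hYn (inv_mem ht)) hu
        have := hg.2 _ hu'
        calc u * (t * x * t⁻¹ * (t * v * t⁻¹) * (t * n * t⁻¹)) = t * ((t⁻¹ * u * t) * g) * t⁻¹ := by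
              rw [hndef]; group
          _ = _ := by rw [this, hndef]; group
    refine ⟨hg.1, ?_⟩
    rw [show g = x * (v * n) by rw [hndef]; group]
    refine mul_mem (fun z hz => ?_) (mul_mem (fun z hz => (hvC z (hPB hz))) hn.2)
    obtain ⟨z', hz', rfl⟩ := (mem_img a).mp hz
    obtain ⟨u', hu', rfl⟩ := (mem_img a).mp hx
    rw [← Subgroup.coe_mul, ← map_mul, show z' * u' = u' * z' from Subtype.ext (comm_of_mem_vV hz' hu'),
      map_mul, Subgroup.coe_mul]
  refine eq_of_le_of_card_ge hle (le_of_eq ?_)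
  have hcard : ∀ e : MulAut ↥(T : Subgroup G), Nat.card ↥((bB 2 (T : Subgroup G)) ⊓ centralizer (img e (vV 2 G) : Set G)) =
      Nat.card ↥((bB 2 (T : Subgroup G)) ⊓ centralizer ((vV 2 G) : Set G)) := fun e => by
    rw [← card_img e (K := (bB 2 (T : Subgroup G)) ⊓ centralizer ((vV 2 G) : Set G)) (inf_le_left.trans inf_le_left),
      img_inf_centralizer e (vV_le_S b), img_baumann]
  rw [hcard a, hcard a']

end Two

include c b s rs h1 in
/-- An automorphism of odd order moves `V` to a subgroup centralizing `V`. -/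
theorem img_le_centralizer_vV (e : MulAut ↥(T : Subgroup G)) (he : Odd (orderOf e)) :
    img e (vV 2 G) ≤ centralizer ((vV 2 G) : Set G) := by
  by_contra hne
  set M₀ := (bB 2 (T : Subgroup G)) ⊓ centralizer ((vV 2 G) : Set G)
  have hM₀ : ∀ a : MulAut ↥(T : Subgroup G), img a M₀ = (bB 2 (T : Subgroup G)) ⊓ centralizer (img a (vV 2 G) : Set G) := fun a => by
    rw [img_inf_centralizer a (vV_le_S b), img_baumann]
  have hS : M₀ ≤ (T : Subgroup G) := inf_le_left.trans inf_le_left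
  have h2 : img (e * e) M₀ = M₀ := by
    have h := centralizer_eq_of_two c b s rs h1 (not_le_inv b e hne) hne
    rw [← hM₀, ← hM₀] at h
    rw [img_mul, h, img_img_inv e hS]
  have hpow : ∀ k : ℕ, img ((e * e) ^ k) M₀ = M₀ := fun k => by
    induction k with
    | zero => rw [pow_zero, img_one hS]
    | succ k ih => rw [pow_succ, img_mul, h2, ih]
  obtain ⟨k, hk⟩ := he
  have he1 : (e * e) ^ (k + 1) = e := by
    rw [← pow_two, ← pow_mul, show 2 * (k + 1) = orderOf e + 1 by omega, pow_succ, pow_orderOf_eq_one,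
      one_mul]
  have h3 := hpow (k + 1)
  rw [he1] at h3
  have hVV : (vV 2 G) ≤ M₀ := fun v hv => ⟨vV_le_B b hv, fun u hu => comm_of_mem_vV hu hv⟩
  refine hne ((img_mono e hVV).trans ?_)
  exact h3.le.trans inf_le_right

include c b s rs h1 in
/-- The conclusion. -/
theorem exists_normal (A : Subgroup (MulAut ↥(T : Subgroup G))) (hA : Odd (Nat.card A)) :
    ∃ U : Subgroup G, U ≠ ⊥ ∧ U.Normal ∧ U ≤ (T : Subgroup G) ∧
      ∀ a ∈ A, ∀ x : ↥(T : Subgroup G), (x : G) ∈ U → ((a x : ↥(T : Subgroup G)) : G) ∈ U := by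
  have hV := vV_le_S b
  set U := ⨆ a : ↥A, img (a : MulAut ↥(T : Subgroup G)) (vV 2 G) with hU
  have hUM : U ≤ (bB 2 (T : Subgroup G)) ⊓ centralizer ((vV 2 G) : Set G) := iSup_le fun a =>
    le_inf (img_vV_le_B b _) (img_le_centralizer_vV c b s rs h1 _
      (hA.of_dvd_nat ((Subgroup.orderOf_coe a).symm ▸ orderOf_dvd_natCard a)))
  have hVU : (vV 2 G) ≤ U := by
    have := le_iSup (fun a : ↥A => img (a : MulAut ↥(T : Subgroup G)) (vV 2 G)) 1
    rwa [OneMemClass.coe_one, img_one hV] at this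
  refine ⟨U, fun h => ?_, ?_, iSup_le fun a => img_le _, fun a ha x hx => ?_⟩
  · have : ((vV 2 G) : Subgroup G) = ⊥ := le_bot_iff.mp (hVU.trans h.le)
    have hB : (bB 2 (T : Subgroup G)).map f = ⊥ := by
      rw [Subgroup.map_eq_bot_iff, c.ker_f, this]
      exact fun g _ v hv => by rw [mem_bot.mp hv]; simp
    exact Dd.2.1.ne (le_bot_iff.mp (((s.side Dd).D_le.trans (map_B b).ge).trans hB.le))
  · rw [← normalizer_eq_top_iff, eq_top_iff, ← rs.sup_T, ← rs.cover]
    have hT : (T : Subgroup G) ≤ normalizer (U : Set G) := fun t ht => by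
      refine LocalStructure.mem_normalizer_of_map_conj_le ?_
      rw [hU, Subgroup.map_iSup]
      refine iSup_mono fun a => ?_
      rintro _ ⟨g, hg, rfl⟩
      exact (mem_normalizer_iff.mp (le_normalizer_img_vV (a : MulAut ↥(T : Subgroup G)) ht) g).mp hg
    refine sup_le (sup_le (fun x hx => LocalStructure.mem_normalizer_of_map_conj_le ?_)
      (inf_le_left.trans hT)) hT
    rintro _ ⟨u, hu, rfl⟩
    obtain ⟨v, hv, e⟩ := conj_core c b s rs h1 (hUM hu) hx
    rw [MulEquiv.coe_toMonoidHom, MulAut.conj_apply, e]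
    exact mul_mem (hVU hv) hu
  · have key : img a U ≤ U := fun g hg => by
      obtain ⟨y, hy, rfl⟩ := (mem_img a).mp hg
      have hle : U ≤ ((U.subgroupOf (T : Subgroup G)).comap a.toMonoidHom).map (T : Subgroup G).subtype := iSup_le fun a' g hg => by
        refine ⟨⟨g, img_le _ hg⟩, ?_, rfl⟩
        have h : ((a ⟨g, img_le _ hg⟩ : ↥(T : Subgroup G)) : G) ∈ img (a * (a' : MulAut ↥(T : Subgroup G))) (vV 2 G) := by
          rw [img_mul]; exact apply_mem_img a hg
        exact le_iSup (fun a : ↥A => img (a : MulAut ↥(T : Subgroup G)) (vV 2 G)) (⟨a, ha⟩ * a') h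
      obtain ⟨y', hy', e⟩ := hle hy
      rw [(T : Subgroup G).subtype_injective e] at hy'
      exact hy'
    exact key (apply_mem_img a hx)

end Cfsg.Agent.PushUpOdd
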