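import Cfsg.Agent.Lib.GlaubermanTransfer.Context

/-!
# Images of subgroups under automorphisms of a subgroup

`img a K`: the image of `K ≤ S` under an automorphism `a` of `S`, in the ambient group; centralizers,
normalizers, characteristic subgroups of `S` and of `B(S)`.
-/

set_option autoImplicit false

namespace Cfsg.Agent.PushUpOdd

open Subgroup

variable {G : Type*} [Group G] {S : Subgroup G} (a : MulAut ↥S) {K L : Subgroup G}

/-- The image of `K ⊓ S` under `a`. -/
def img (K : Subgroup G) : Subgroup G := ((K.subgroupOf S).map a.toMonoidHom).map S.subtype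

theorem mem_img {g : G} : g ∈ img a K ↔ ∃ x : ↥S, (x : G) ∈ K ∧ ((a x : ↥S) : G) = g := by
  constructor
  · rintro ⟨_, ⟨x, hx, rfl⟩, rfl⟩
    exact ⟨x, hx, rfl⟩
  · rintro ⟨x, hx, rfl⟩
    exact ⟨a x, ⟨x, hx, rfl⟩, rfl⟩

theorem apply_mem_img {x : ↥S} (hx : (x : G) ∈ K) : ((a x : ↥S) : G) ∈ img a K :=
  (mem_img a).mpr ⟨x, hx, rfl⟩

theorem img_le : img a K ≤ S := map_subtype_le _

theorem img_mono (h : K ≤ L) : img a K ≤ img a L := fun g hg => by
  obtain ⟨x, hx, rfl⟩ := (mem_img a).mp hg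
  exact apply_mem_img a (h hx)

theorem img_one (h : K ≤ S) : img (1 : MulAut ↥S) K = K := by
  ext g
  rw [mem_img]
  exact ⟨fun ⟨x, hx, e⟩ => e ▸ hx, fun hg => ⟨⟨g, h hg⟩, hg, rfl⟩⟩

theorem img_mul (b : MulAut ↥S) : img (a * b) K = img a (img b K) := by
  ext g
  rw [mem_img, mem_img]
  constructor
  · rintro ⟨x, hx, rfl⟩
    exact ⟨b x, apply_mem_img b hx, rfl⟩
  · rintro ⟨y, hy, rfl⟩
    obtain ⟨x, hx, e⟩ := (mem_img b).mp hy
    exact ⟨x, hx, by rw [MulAut.mul_apply, Subtype.ext e]⟩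

theorem img_inv_img (h : K ≤ S) : img a⁻¹ (img a K) = K := by rw [← img_mul, inv_mul_cancel, img_one h]

theorem img_img_inv (h : K ≤ S) : img a (img a⁻¹ K) = K := by rw [← img_mul, mul_inv_cancel, img_one h]

theorem card_img (h : K ≤ S) : Nat.card (img a K) = Nat.card K := by
  refine (Nat.card_eq_of_bijective
    (fun k : ↥K => (⟨((a ⟨k, h k.2⟩ : ↥S) : G), apply_mem_img a k.2⟩ : ↥(img a K)))
    ⟨fun k k' e => ?_, fun g => ?_⟩).symm
  · have := a.injective (Subtype.ext (congrArg Subtype.val e :))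
    exact Subtype.ext (congrArg (fun x : ↥S => (x : G)) this :)
  · obtain ⟨x, hx, e⟩ := (mem_img a).mp g.2
    exact ⟨⟨x, hx⟩, Subtype.ext e⟩

theorem img_le_centralizer (h : K ≤ centralizer (L : Set G)) :
    img a K ≤ centralizer (img a L : Set G) := by
  intro g hg y hy
  obtain ⟨x, hx, rfl⟩ := (mem_img a).mp hg
  obtain ⟨z, hz, rfl⟩ := (mem_img a).mp hy
  have : z * x = x * z := Subtype.ext (h hx _ hz)
  rw [← Subgroup.coe_mul, ← map_mul, this, map_mul, Subgroup.coe_mul]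

theorem img_inf_centralizer (hL : L ≤ S) :
    img a (K ⊓ centralizer (L : Set G)) = img a K ⊓ centralizer (img a L : Set G) := by
  refine le_antisymm (le_inf (img_mono a inf_le_left)
    (img_le_centralizer a inf_le_right)) fun g hg => ?_
  obtain ⟨x, hx, rfl⟩ := (mem_img a).mp hg.1
  refine apply_mem_img a ⟨hx, fun y hy => ?_⟩
  have : a (⟨y, hL hy⟩ * x) = a (x * ⟨y, hL hy⟩) := by
    rw [map_mul, map_mul]
    exact Subtype.ext (hg.2 _ (apply_mem_img a (x := ⟨y, hL hy⟩) hy))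
  exact congrArg Subtype.val (a.injective this)

theorem le_normalizer_img [Finite G] (hn : S ≤ normalizer (K : Set G)) :
    S ≤ normalizer (img a K : Set G) := fun s hs => by
  refine LocalStructure.mem_normalizer_of_map_conj_le ?_
  rintro _ ⟨g, hg, rfl⟩
  obtain ⟨x, hx, rfl⟩ := (mem_img a).mp hg
  refine (mem_img a).mpr ⟨a⁻¹ ⟨s, hs⟩ * x * (a⁻¹ ⟨s, hs⟩)⁻¹, ?_, ?_⟩
  · exact (mem_normalizer_iff.mp (hn (SetLike.coe_mem (a⁻¹ ⟨s, hs⟩))) _).mp hx
  · rw [map_mul, map_mul, map_inv a, MulAut.apply_inv_self]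
    rfl

theorem img_eq_of_characteristic (hK : K ≤ S) (h : (K.subgroupOf S).Characteristic) : img a K = K := by
  rw [img, characteristic_iff_map_eq.mp h a, subgroupOf, map_comap_eq_self (by rwa [range_subtype])]

variable (S) (p : ℕ)

theorem img_baumann (a : MulAut ↥S) :
    img a (Cfsg.baumannSubgroupOf p S) = Cfsg.baumannSubgroupOf p S := by
  refine img_eq_of_characteristic a inf_le_left ?_
  rw [← GlaubermanTransfer.map_baumann_subtype (p := p) S, subgroupOf,
    comap_map_eq_self_of_injective S.subtype_injective]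
  exact GlaubermanTransfer.baumann_top_characteristic

theorem img_omega (a : MulAut ↥S) :
    img a (Cfsg.omegaOneCenter p S) = Cfsg.omegaOneCenter p S := by
  refine img_eq_of_characteristic a (BaumannBlock.omegaOneCenter_le _) ?_
  rw [← GlaubermanTransfer.map_omegaOneCenter_subtype (p := p) S, subgroupOf,
    comap_map_eq_self_of_injective S.subtype_injective]
  exact GlaubermanTransfer.omegaOneCenter_top_characteristic

variable {S}

theorem img_of_char_baumann {C : Subgroup G} (hC : C ≤ Cfsg.baumannSubgroupOf p S)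
    (h : (C.subgroupOf (Cfsg.baumannSubgroupOf p S)).Characteristic) : img a C = C := by
  set B := Cfsg.baumannSubgroupOf p S with hB
  have hBS : B ≤ S := inf_le_left
  have key : ∀ (e : MulAut ↥S) (x : ↥B), ((e ⟨x, hBS x.2⟩ : ↥S) : G) ∈ B := fun e x => by
    have := apply_mem_img e (K := B) (x := ⟨x, hBS x.2⟩) x.2
    exact (img_baumann S p e).le this
  let φ : ↥B ≃* ↥B :=
    { toFun := fun x => ⟨_, key a x⟩
      invFun := fun x => ⟨_, key a⁻¹ x⟩
      left_inv := fun x => Subtype.ext (by simp)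
      right_inv := fun x => Subtype.ext (by simp)
      map_mul' := fun x y => Subtype.ext (by
        show ((a ⟨(x * y : ↥B), hBS (x * y).2⟩ : ↥S) : G) = _
        rw [show (⟨((x * y : ↥B) : G), hBS (x * y).2⟩ : ↥S) = ⟨x, hBS x.2⟩ * ⟨y, hBS y.2⟩ from rfl,
          map_mul]
        rfl) }
  ext g
  rw [mem_img]
  constructor
  · rintro ⟨x, hx, rfl⟩
    exact ((SetLike.ext_iff.mp (characteristic_iff_map_eq.mp h φ) (φ ⟨x, hC hx⟩)).mp ⟨_, hx, rfl⟩ :)
  · intro hg
    obtain ⟨x, hx, e⟩ : (⟨g, hC hg⟩ : ↥B) ∈ (C.subgroupOf B).map φ.toMonoidHom := by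
      rw [characteristic_iff_map_eq.mp h φ]; exact hg
    exact ⟨⟨x, hBS x.2⟩, hx, congrArg Subtype.val e⟩

theorem omega_ne_bot {q : ℕ} [Finite G] [Fact q.Prime] (P : Sylow q G) (hP : (P : Subgroup G) ≠ ⊥) :
    Cfsg.omegaOneCenter q (P : Subgroup G) ≠ ⊥ := by
  haveI : Nontrivial ↥(P : Subgroup G) := (nontrivial_iff_ne_bot _).mpr hP
  refine PGroup.omegaOne_ne_bot ?_
  have hne : (P : Subgroup G) ⊓ centralizer ((P : Subgroup G) : Set G) ≠ ⊥ := by
    intro hc
    haveI := P.2.center_nontrivial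
    obtain ⟨⟨z, hz⟩, hz1⟩ := exists_ne (1 : ↥(Subgroup.center ↥(P : Subgroup G)))
    refine hz1 (Subtype.ext (Subtype.ext (mem_bot.mp (hc.le ⟨z.2, fun x hx => ?_⟩))))
    exact congrArg Subtype.val (Subgroup.mem_center_iff.mp hz ⟨x, hx⟩)
  obtain ⟨k, hk⟩ := IsPGroup.iff_card.mp (P.2.to_le (inf_le_left :
    (P : Subgroup G) ⊓ centralizer ((P : Subgroup G) : Set G) ≤ _))
  rcases k with - | k
  · exact absurd (eq_bot_of_card_eq _ (by simpa using hk)) hne
  · exact hk ▸ dvd_pow_self q k.succ_ne_zero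

end Cfsg.Agent.PushUpOdd
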